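import Groth.Agent.H06Unibr.Stage
import Groth.Agent.H06EGA11c.PrimaryAdic
import Groth.Agent.H3CAlg.ChevalleyEssFin
import Groth.Agent.H9Hens.BranchNormal
import Mathlib

/-!
# Descent of flatness over an analytically irreducible base with separably closed residue field
-/

set_option autoImplicit false
set_option linter.style.haveILetI false
set_option backward.isDefEq.respectTransparency false
set_option maxHeartbeats 1000000

universe u

open TensorProduct IsLocalRing

namespace Groth.Agent.H06Unibr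

attribute [local instance] Algebra.TensorProduct.rightAlgebra

variable {A₁ B : Type u} [CommRing A₁] [CommRing B] [Algebra A₁ B]

/-- Flatness at a prime of `C ⊗ B`, read on the base change `BC` of `B`. -/
theorem flat_localizedModule_BC (C : Type u) [CommRing C] [Algebra A₁ C] (P : Ideal (C ⊗[A₁] B)) [P.IsPrime]
    (h : Module.Flat C (Localization.AtPrime P)) :
    Module.Flat C (LocalizedModule (P.comap (Algebra.TensorProduct.comm A₁ B C).toRingEquiv.toRingHom).primeCompl
      (H06EGA11.BC A₁ B B C)) := by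
  let e : B ⊗[A₁] C ≃ₐ[C] C ⊗[A₁] B :=
    AlgEquiv.ofRingEquiv (f := (Algebra.TensorProduct.comm A₁ B C).toRingEquiv) fun c => rfl
  let P' := P.comap (Algebra.TensorProduct.comm A₁ B C).toRingEquiv.toRingHom
  have h1 : Module.Flat C (Localization.AtPrime P') := (flat_localization_algEquiv e P).2 h
  let r : H06EGA11.BC A₁ B B C ≃ₗ[B ⊗[A₁] C] B ⊗[A₁] C := AlgebraTensorModule.rid B (B ⊗[A₁] C) (B ⊗[A₁] C)
  let l := IsLocalizedModule.linearEquiv P'.primeCompl
    (LocalizedModule.mkLinearMap P'.primeCompl (H06EGA11.BC A₁ B B C))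
    ((Algebra.linearMap (B ⊗[A₁] C) (Localization.AtPrime P')) ∘ₗ r.toLinearMap)
  exact Module.Flat.of_linearEquiv (l.restrictScalars C)

theorem flat_of_complete_domain_sepClosed [IsLocalRing A₁] [IsNoetherianRing A₁]
    [IsDomain (AdicCompletion (maximalIdeal A₁) A₁)] [IsSepClosed (ResidueField A₁)]
    [Algebra.FinitePresentation A₁ B] {V : Type u} [CommRing V] [IsDomain V] [IsLocalRing V] [Algebra A₁ V]
    [IsLocalHom (algebraMap A₁ V)] (hinj : Function.Injective (algebraMap A₁ V))
    (Q : Ideal (V ⊗[A₁] B)) [Q.IsPrime] (hQ : Q.comap (algebraMap V (V ⊗[A₁] B)) = maximalIdeal V)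
    (hflat : Module.Flat V (Localization.AtPrime Q)) :
    Module.Flat A₁ (Localization.AtPrime
      (Q.comap (Algebra.TensorProduct.includeRight : B →ₐ[A₁] V ⊗[A₁] B).toRingHom)) := by
  obtain ⟨C, _, _, _, _, _, j, hj, hjloc, hC⟩ := exists_stage_local Q hflat
  haveI : IsLocalHom (algebraMap A₁ C) := ⟨fun a ha => isUnit_of_map_unit (algebraMap A₁ V) a (by
    rw [← j.commutes]; exact ha.map j)⟩
  have hinjC : Function.Injective (algebraMap A₁ C) := fun a b hab => hinj (by
    rw [← j.commutes, ← j.commutes, hab])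
  haveI : IsNoetherianRing C := Algebra.EssFiniteType.isNoetherianRing A₁ C
  haveI : IsNoetherianRing B := Algebra.FiniteType.isNoetherianRing A₁ B
  set q := Q.comap (Algebra.TensorProduct.includeRight : B →ₐ[A₁] V ⊗[A₁] B).toRingHom
  have hcomap : (maximalIdeal V).comap (algebraMap A₁ V) = maximalIdeal A₁ := by
    ext a
    rw [Ideal.mem_comap, mem_maximalIdeal, mem_maximalIdeal, mem_nonunits_iff, mem_nonunits_iff,
      isUnit_map_iff (algebraMap A₁ V) a]
  have hqp : q.comap (algebraMap A₁ B) = maximalIdeal A₁ := by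
    rw [← hcomap, ← hQ, Ideal.comap_comap, Ideal.comap_comap]
    congr 1
    ext a
    show (1 : V) ⊗ₜ[A₁] algebraMap A₁ B a = algebraMap A₁ V a ⊗ₜ[A₁] (1 : B)
    rw [Algebra.algebraMap_eq_smul_one, Algebra.algebraMap_eq_smul_one, TensorProduct.smul_tmul]
  letI : Algebra (maximalIdeal A₁).ResidueField q.ResidueField :=
    (Ideal.ResidueField.map (maximalIdeal A₁) q (algebraMap A₁ B) hqp.symm).toAlgebra
  haveI : IsScalarTower A₁ (maximalIdeal A₁).ResidueField q.ResidueField :=
    IsScalarTower.of_algebraMap_eq fun a => by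
      rw [IsScalarTower.algebraMap_apply A₁ B q.ResidueField]
      exact (Ideal.ResidueField.map_algebraMap _ _ _ _ _).symm
  haveI : IsSepClosed (maximalIdeal A₁).ResidueField :=
    H9Hens.isSepClosed_of_ringEquiv (K := ResidueField A₁) (RingEquiv.ofBijective
      (algebraMap (A₁ ⧸ maximalIdeal A₁) (maximalIdeal A₁).ResidueField)
      (Ideal.bijective_algebraMap_quotient_residueField (maximalIdeal A₁)))
  refine H06EGA11c.flat_localizedModule_of_exists_adic_family (R₀ := A₁) (R := B) (M := B) q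
    (maximalIdeal A₁) hqp (IntermediateField.eq_bot_of_isSepClosed_of_isSeparable _)
    (fun _ : PUnit.{u+1} => C) (fun _ => IsLocalRing.eq_maximalIdeal (by
      have : (maximalIdeal C).comap (algebraMap A₁ C) = maximalIdeal A₁ := by
        ext a
        rw [Ideal.mem_comap, mem_maximalIdeal, mem_maximalIdeal, mem_nonunits_iff, mem_nonunits_iff,
          isUnit_map_iff (algebraMap A₁ C) a]
      rw [this]; exact maximalIdeal.isMaximal A₁)) (fun N => ?_) fun _ => ?_
  · obtain ⟨n, hn⟩ := H3CAlg.ChevalleyEssFin.exists_comap_pow_le A₁ C hinjC N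
    refine ⟨{(PUnit.unit, n)}, fun a ha => ?_⟩
    have h1 : a ∈ maximalIdeal A₁ ^ N := hn (ha (PUnit.unit, n) (Finset.mem_singleton_self _))
    rw [← Localization.AtPrime.map_eq_maximalIdeal (I := maximalIdeal A₁), ← Ideal.map_pow]
    exact Ideal.mem_map_of_mem _ h1
  · let φ : C ⊗[A₁] B →ₐ[A₁] V ⊗[A₁] B := Algebra.TensorProduct.map j (AlgHom.id A₁ B)
    refine ⟨(Q.comap φ.toRingHom).comap (Algebra.TensorProduct.comm A₁ B C).toRingEquiv.toRingHom,
      inferInstance, ?_, ?_, flat_localizedModule_BC C _ hC⟩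
    · ext b
      show φ ((Algebra.TensorProduct.comm A₁ B C) (b ⊗ₜ 1)) ∈ Q ↔ _
      rw [Algebra.TensorProduct.comm_tmul, Algebra.TensorProduct.map_tmul, map_one]
      rfl
    · ext c
      show φ ((Algebra.TensorProduct.comm A₁ B C) (1 ⊗ₜ c)) ∈ Q ↔ _
      rw [Algebra.TensorProduct.comm_tmul, Algebra.TensorProduct.map_tmul]
      show algebraMap V (V ⊗[A₁] B) (j c) ∈ Q ↔ _
      rw [show algebraMap V (V ⊗[A₁] B) (j c) ∈ Q ↔ j c ∈ maximalIdeal V from SetLike.ext_iff.1 hQ (j c),
        mem_maximalIdeal, mem_maximalIdeal, mem_nonunits_iff, mem_nonunits_iff]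
      exact (isUnit_map_iff j.toRingHom c).not

end Groth.Agent.H06Unibr
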