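import Groth.Agent.H8Props.FlatLocus.Scheme
import Mathlib

/-!
# Affine fibre products as spectra of tensor products
-/

set_option autoImplicit false
set_option linter.style.haveILetI false
set_option backward.isDefEq.respectTransparency false

universe u

open CategoryTheory CategoryTheory.Limits AlgebraicGeometry TensorProduct

namespace Groth.Agent.H06Unibr.Dict

variable (A B N : Type u) [CommRing A] [CommRing B] [CommRing N] [Algebra A B] [Algebra A N]

/-- The structure map of an affine scheme over the base. -/
noncomputable abbrev str (A B : Type u) [CommRing A] [CommRing B] [Algebra A B] :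
    Spec (CommRingCat.of B) ⟶ Spec (CommRingCat.of A) :=
  Spec.map (CommRingCat.ofHom (algebraMap A B))

/-- The fibre product as the spectrum of `N ⊗ B`. -/
noncomputable def iso : pullback (str A B) (str A N) ≅ Spec (CommRingCat.of (N ⊗[A] B)) :=
  pullbackSymmetry (str A B) (str A N) ≪≫ pullbackSpecIso A N B

theorem iso_fst : (iso A B N).hom ≫
    Spec.map (CommRingCat.ofHom (Algebra.TensorProduct.includeRight : B →ₐ[A] N ⊗[A] B).toRingHom) =
      pullback.fst _ _ := by
  rw [iso, Iso.trans_hom, Category.assoc]
  exact (congrArg _ (AlgebraicGeometry.pullbackSpecIso_hom_snd A N B)).trans (pullbackSymmetry_hom_comp_snd _ _)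

theorem iso_snd : (iso A B N).hom ≫ Spec.map (CommRingCat.ofHom (algebraMap N (N ⊗[A] B))) =
    pullback.snd _ _ := by
  rw [iso, Iso.trans_hom, Category.assoc, AlgebraicGeometry.pullbackSpecIso_hom_fst']
  exact pullbackSymmetry_hom_comp_fst _ _

theorem flat_snd_iff (x' : ↥(pullback (str A B) (str A N))) :
    ((pullback.snd (str A B) (str A N)).stalkMap x').hom.Flat ↔
      Module.Flat N (Localization.AtPrime ((iso A B N).hom x').asIdeal) := by
  rw [← H8Props.FlatLocus.flat_stalkMap_Spec_iff]
  exact H17.LocusBC.flat_stalkMap_comp_iff (iso A B N).hom _ (𝟙 _) (pullback.snd _ _)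
    ((Category.comp_id _).trans (iso_snd A B N).symm) x'

theorem fst_asIdeal (x' : ↥(pullback (str A B) (str A N))) :
    (pullback.fst (str A B) (str A N) x').asIdeal =
      ((iso A B N).hom x').asIdeal.comap (Algebra.TensorProduct.includeRight : B →ₐ[A] N ⊗[A] B).toRingHom := by
  rw [← iso_fst A B N]
  rfl

theorem snd_asIdeal (x' : ↥(pullback (str A B) (str A N))) :
    (pullback.snd (str A B) (str A N) x').asIdeal =
      ((iso A B N).hom x').asIdeal.comap (algebraMap N (N ⊗[A] B)) := by
  rw [← iso_snd A B N]
  rfl

theorem exists_point (P : Ideal (N ⊗[A] B)) [P.IsPrime] :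
    ∃ x' : ↥(pullback (str A B) (str A N)), ((iso A B N).hom x').asIdeal = P := by
  refine ⟨(iso A B N).inv ⟨P, inferInstance⟩, ?_⟩
  rw [← Scheme.Hom.comp_apply, Iso.inv_hom_id]
  rfl

end Groth.Agent.H06Unibr.Dict
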