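import Groth.Agent.H06Unibr.Main

/-!
# Descent of flatness over unibranch local domains: rings and schemes
-/

set_option autoImplicit false
set_option linter.style.haveILetI false
set_option backward.isDefEq.respectTransparency false
set_option maxHeartbeats 1000000

universe u

open CategoryTheory CategoryTheory.Limits AlgebraicGeometry TensorProduct IsLocalRing

namespace Groth.Agent.H06Unibr

variable {A A' B : Type u} [CommRing A] [IsDomain A] [IsLocalRing A] [CommRing A'] [IsLocalRing A']
  [Algebra A A'] [IsLocalHom (algebraMap A A')] [CommRing B] [Algebra A B] [Algebra.FinitePresentation A B]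

/-- The points of the normalized base change over a point over the closed point decide flatness. -/
theorem flat_of_forall_normRed (hA : CAlg2.IsUnibranch A) (hint : Algebra.IsIntegral A (CAlg2.normRed A))
    (hinj : Function.Injective (algebraMap A (CAlg2.normRed A))) (q : Ideal B) [q.IsPrime]
    (h : ∀ (P : Ideal (CAlg2.normRed A ⊗[A] B)) [P.IsPrime],
      P.comap (Algebra.TensorProduct.includeRight : B →ₐ[A] CAlg2.normRed A ⊗[A] B).toRingHom = q →
      Module.Flat (CAlg2.normRed A) (Localization.AtPrime P)) :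
    Module.Flat A (Localization.AtPrime q) := by
  haveI := hint
  haveI : LocallyOfFinitePresentation (Dict.str A B) := by
    rw [HasRingHomProperty.Spec_iff (P := @LocallyOfFinitePresentation)]
    exact RingHom.finitePresentation_algebraMap.2 inferInstance
  refine (H8Props.FlatLocus.flat_stalkMap_Spec_iff (⟨q, inferInstance⟩ : PrimeSpectrum B)).1
    (S2564.result hinj (Dict.str A B) ⟨q, inferInstance⟩ fun x' hx' => ?_)
  refine (Dict.flat_snd_iff A B _ x').2 (h _ ?_)
  rw [← Dict.fst_asIdeal]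
  exact congrArg PrimeSpectrum.asIdeal hx'

section Transfer

variable {N V : Type u} [CommRing N] [IsLocalRing N] [CommRing V] [IsLocalRing V] [Algebra A N] [Algebra A V]
  [Algebra N V] [IsScalarTower A N V] [IsLocalHom (algebraMap N V)] [Algebra A' V] [IsScalarTower A A' V]
  [IsLocalHom (algebraMap A' V)]

omit [IsDomain A] [IsLocalRing A] [IsLocalRing N] [IsLocalHom (algebraMap A A')] [Algebra.FinitePresentation A B] in
/-- A prime over a prime of a base change and the closed point. -/
theorem exists_prime_above {C : Type u} [CommRing C] [IsLocalRing C] [Algebra A C] [Algebra C V] [IsScalarTower A C V]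
    [IsLocalHom (algebraMap C V)] (P : Ideal (C ⊗[A] B)) [P.IsPrime]
    (hP : P.comap (algebraMap C (C ⊗[A] B)) = maximalIdeal C) :
    ∃ (Q : Ideal (V ⊗[A] B)) (_ : Q.IsPrime), Q.comap (algebraMap V (V ⊗[A] B)) = maximalIdeal V ∧
      Q.comap (Algebra.TensorProduct.map (IsScalarTower.toAlgHom A C V) (AlgHom.id A B)).toRingHom = P := by
  letI : Algebra (C ⊗[A] B) (V ⊗[C] (C ⊗[A] B)) := Algebra.TensorProduct.rightAlgebra
  haveI : Algebra.IsPushout C (C ⊗[A] B) V (V ⊗[C] (C ⊗[A] B)) :=
    Algebra.IsPushout.symm (inferInstance : Algebra.IsPushout C V (C ⊗[A] B) (V ⊗[C] (C ⊗[A] B)))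
  obtain ⟨Q₁, hQ₁, h1, h2⟩ := H8Props.FlatAtBC.exists_prime_over (R := C) (S := C ⊗[A] B) (R' := V)
    (S' := V ⊗[C] (C ⊗[A] B)) P (maximalIdeal V) (by rw [hP]; exact IsLocalRing.maximalIdeal_comap _)
  let e : V ⊗[C] (C ⊗[A] B) ≃ₐ[V] V ⊗[A] B := Algebra.TensorProduct.cancelBaseChange A C V V B
  haveI := hQ₁
  refine ⟨Q₁.comap e.symm.toAlgHom.toRingHom, inferInstance, ?_, ?_⟩
  · rw [Ideal.comap_comap, ← h2]
    congr 1
  · rw [Ideal.comap_comap, ← h1]
    congr 1
    refine RingHom.ext fun t => ?_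
    induction t using TensorProduct.induction_on with
    | zero => simp
    | add a b ha hb => simp only [map_add, ha, hb]
    | tmul a b =>
      show e.symm (algebraMap C V a ⊗ₜ[A] b) = (1 : V) ⊗ₜ[C] (a ⊗ₜ[A] b)
      rw [AlgEquiv.symm_apply_eq, Algebra.TensorProduct.cancelBaseChange_tmul, Algebra.algebraMap_eq_smul_one]

end Transfer

theorem comap_eq_maximalIdeal {N : Type u} [CommRing N] [IsLocalRing N] [Algebra A N] [Algebra.IsIntegral A N]
    (q : Ideal B) (hq : q.comap (algebraMap A B) = maximalIdeal A) (P : Ideal (N ⊗[A] B)) [P.IsPrime]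
    (hP : P.comap (Algebra.TensorProduct.includeRight : B →ₐ[A] N ⊗[A] B).toRingHom = q) :
    P.comap (algebraMap N (N ⊗[A] B)) = maximalIdeal N := by
  refine IsLocalRing.eq_maximalIdeal (Ideal.isMaximal_of_isIntegral_of_isMaximal_comap (R := A) _ ?_)
  have : (P.comap (algebraMap N (N ⊗[A] B))).comap (algebraMap A N) = maximalIdeal A := by
    rw [← hq, ← hP, Ideal.comap_comap, Ideal.comap_comap]
    congr 1
    exact RingHom.ext fun a => ((Algebra.TensorProduct.includeRight (R := A) (A := N) (B := B)).commutes a).symm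
  rw [this]
  exact maximalIdeal.isMaximal A

/-- Flatness from every point of the base change over the point. -/
theorem flat_of_forall (hA : CAlg2.IsUnibranch A) (hinj : Function.Injective (algebraMap A A'))
    (q : Ideal B) [q.IsPrime] (hq : q.comap (algebraMap A B) = maximalIdeal A)
    (h : ∀ (P : Ideal (A' ⊗[A] B)) [P.IsPrime],
      P.comap (Algebra.TensorProduct.includeRight : B →ₐ[A] A' ⊗[A] B).toRingHom = q →
      P.comap (algebraMap A' (A' ⊗[A] B)) = maximalIdeal A' → Module.Flat A' (Localization.AtPrime P)) :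
    Module.Flat A (Localization.AtPrime q) := by
  obtain ⟨hN, hint, hinjN, E, _, _, V, φ, ψ, hφ, hψ, hψi, hcomp⟩ := exists_data hA hinj
  haveI := hN; haveI := hint
  haveI : IsDomain (CAlg2.red A) := hA.1
  haveI : IsLocalRing (CAlg2.normRed A) := hA.2
  refine flat_of_forall_normRed hA hint hinjN q fun P _ hP => ?_
  haveI := henselianLocalRing_valuationSubring V
  haveI : IsAlgClosed (ResidueField V) := H06EGA14.isAlgClosed_residueField V
  letI := φ.toAlgebra; letI := ψ.toAlgebra
  letI : Algebra A V := (φ.comp (algebraMap A A')).toAlgebra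
  haveI : IsScalarTower A A' V := IsScalarTower.of_algebraMap_eq fun _ => rfl
  haveI : IsScalarTower A (CAlg2.normRed A) V :=
    IsScalarTower.of_algebraMap_eq fun a => (RingHom.congr_fun hcomp a).symm
  haveI : IsLocalHom (algebraMap A' V) := hφ
  haveI : IsLocalHom (algebraMap (CAlg2.normRed A) V) := hψ
  obtain ⟨Q, hQp, hQ, hQP⟩ := exists_prime_above (V := V) P (comap_eq_maximalIdeal q hq P hP)
  haveI := hQp
  let π := Algebra.TensorProduct.map (IsScalarTower.toAlgHom A A' V) (AlgHom.id A B)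
  have h1 := flat_over_normal (A' := A') (N := CAlg2.normRed A) hψi Q hQ (h (Q.comap π.toRingHom) (by
    rw [← hP, ← hQP, Ideal.comap_comap, Ideal.comap_comap]
    congr 1
    exact RingHom.ext fun b => by
      show π ((1 : A') ⊗ₜ[A] b) = Algebra.TensorProduct.map (IsScalarTower.toAlgHom A (CAlg2.normRed A) V)
        (AlgHom.id A B) ((1 : CAlg2.normRed A) ⊗ₜ[A] b)
      simp [π]) (by
    rw [Ideal.comap_comap, ← comap_maximalIdeal_eq (algebraMap A' V), ← hQ, Ideal.comap_comap]
    congr 1))
  subst hQP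
  exact h1

omit [IsDomain A] [IsLocalRing A] [IsLocalRing A'] [IsLocalHom (algebraMap A A')] [Algebra.FinitePresentation A B] in
/-- Congruences of powers add up over a maximal ideal. -/
theorem add_pow_sub_mem {R W : Type u} [CommRing R] [CommRing W] (m : Ideal R) [m.IsMaximal] (f : R →+* W)
    (P : Ideal W) [P.IsPrime] (hm : ∀ n ∈ m, f n ∈ P) (p : ℕ) [ExpChar (R ⧸ m) p] {x y b c : W} {k l : ℕ}
    (hb : x ^ p ^ k - b ∈ P) (hc : y ^ p ^ l - c ∈ P) :
    (x + y) ^ p ^ (k + l) - (b ^ p ^ l + c ^ p ^ k) ∈ P := by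
  letI := Ideal.Quotient.field m
  let π : R ⧸ m →+* W ⧸ P := Ideal.Quotient.lift m ((Ideal.Quotient.mk P).comp f)
    fun n hn => Ideal.Quotient.eq_zero_iff_mem.2 (hm n hn)
  haveI : ExpChar (W ⧸ P) p := expChar_of_injective_ringHom π.injective p
  rw [← Ideal.Quotient.mk_eq_mk_iff_sub_mem] at hb hc ⊢
  rw [map_pow] at hb hc
  rw [map_pow, map_add, map_add, map_pow, map_pow, add_pow_expChar_pow, ← hb, ← hc, ← pow_mul, ← pow_mul,
    ← pow_add, ← pow_add, add_comm l k]

/-- A power congruent to an element of a prime. -/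
theorem mem_iff_of_pow_sub_mem {W : Type u} [CommRing W] (P : Ideal W) [P.IsPrime] {r b : W} {n : ℕ} (hn : 0 < n)
    (h : r ^ n - b ∈ P) : r ∈ P ↔ b ∈ P := by
  rw [← Ideal.IsPrime.pow_mem_iff_mem (I := P) inferInstance n hn]
  exact ⟨fun hr => by simpa using P.sub_mem hr h, fun hr => by simpa using P.add_mem h hr⟩

/-- There is only one prime of the normalized base change over a point over the closed point. -/
theorem eq_of_geomUnibranch (hA : CAlg2.IsGeomUnibranch A) (hint : Algebra.IsIntegral A (CAlg2.normRed A))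
    (q : Ideal B) (hq : q.comap (algebraMap A B) = maximalIdeal A)
    (P₁ P₂ : Ideal (CAlg2.normRed A ⊗[A] B)) [P₁.IsPrime] [P₂.IsPrime]
    (h₁ : P₁.comap (Algebra.TensorProduct.includeRight : B →ₐ[A] CAlg2.normRed A ⊗[A] B).toRingHom = q)
    (h₂ : P₂.comap (Algebra.TensorProduct.includeRight : B →ₐ[A] CAlg2.normRed A ⊗[A] B).toRingHom = q) :
    P₁ = P₂ := by
  haveI := hint
  haveI : IsLocalRing (CAlg2.normRed A) := hA.1.2
  set N := CAlg2.normRed A
  set m := maximalIdeal N
  letI := Ideal.Quotient.field m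
  set p := ringExpChar (N ⧸ m)
  haveI : ExpChar (N ⧸ m) p := ringExpChar.expChar _
  have hm : ∀ (P : Ideal (N ⊗[A] B)) [P.IsPrime],
      P.comap (Algebra.TensorProduct.includeRight : B →ₐ[A] (N ⊗[A] B)).toRingHom = q →
      ∀ n ∈ m, algebraMap N (N ⊗[A] B) n ∈ P := fun P _ hP n hn => (comap_eq_maximalIdeal q hq P hP).ge hn
  have key : ∀ r : (N ⊗[A] B), ∃ (k : ℕ) (b : B), ∀ (P : Ideal (N ⊗[A] B)) [P.IsPrime],
      P.comap (Algebra.TensorProduct.includeRight : B →ₐ[A] (N ⊗[A] B)).toRingHom = q →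
      r ^ p ^ k - (1 : N) ⊗ₜ[A] b ∈ P := by
    intro r
    induction r using TensorProduct.induction_on with
    | zero => exact ⟨0, 0, fun P _ _ => by simp⟩
    | tmul n b =>
      obtain ⟨k, a, ha⟩ := hA.2 m (Ideal.Quotient.mk m n)
      refine ⟨k, a • b ^ p ^ k, fun P _ hP => ?_⟩
      rw [← map_pow] at ha
      have hmem : n ^ p ^ k - algebraMap A N a ∈ m := by
        rw [← Ideal.Quotient.mk_eq_mk_iff_sub_mem]
        exact ha.symm
      have := P.mul_mem_right ((1 : N) ⊗ₜ[A] (b ^ p ^ k)) (hm P hP _ hmem)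
      rw [Algebra.TensorProduct.algebraMap_apply, Algebra.algebraMap_self_apply, Algebra.TensorProduct.tmul_mul_tmul,
        mul_one, one_mul, TensorProduct.sub_tmul, Algebra.algebraMap_eq_smul_one, TensorProduct.smul_tmul] at this
      rw [Algebra.TensorProduct.tmul_pow]
      exact this
    | add x y hx hy =>
      obtain ⟨k, b, hb⟩ := hx
      obtain ⟨l, c, hc⟩ := hy
      refine ⟨k + l, b ^ p ^ l + c ^ p ^ k, fun P _ hP => ?_⟩
      have h := add_pow_sub_mem (W := N ⊗[A] B) m (algebraMap N (N ⊗[A] B)) P (hm P hP) p (hb P hP) (hc P hP)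
      rw [Algebra.TensorProduct.tmul_pow, Algebra.TensorProduct.tmul_pow, one_pow, one_pow,
        ← TensorProduct.tmul_add] at h
      exact h
  ext r
  obtain ⟨k, b, hb⟩ := key r
  have aux : ∀ (P : Ideal (N ⊗[A] B)) [P.IsPrime],
      P.comap (Algebra.TensorProduct.includeRight : B →ₐ[A] (N ⊗[A] B)).toRingHom = q → (r ∈ P ↔ b ∈ q) := by
    intro P _ hP
    have h := hb P hP
    have h' : b ∈ q ↔ (1 : N) ⊗ₜ[A] b ∈ P := by rw [← hP]; rfl
    rw [h']
    exact mem_iff_of_pow_sub_mem (W := N ⊗[A] B) P (pow_pos (expChar_pos (N ⧸ m) p) k) h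
  exact (aux P₁ h₁).trans (aux P₂ h₂).symm

/-- Flatness from one point of the base change. -/
theorem flat_of_exists (hA : CAlg2.IsGeomUnibranch A) (hinj : Function.Injective (algebraMap A A'))
    (q : Ideal B) [q.IsPrime] (hq : q.comap (algebraMap A B) = maximalIdeal A)
    (h : ∃ (P : Ideal (A' ⊗[A] B)) (_ : P.IsPrime),
      P.comap (Algebra.TensorProduct.includeRight : B →ₐ[A] A' ⊗[A] B).toRingHom = q ∧
      P.comap (algebraMap A' (A' ⊗[A] B)) = maximalIdeal A' ∧ Module.Flat A' (Localization.AtPrime P)) :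
    Module.Flat A (Localization.AtPrime q) := by
  obtain ⟨hN, hint, hinjN, E, _, _, V, φ, ψ, hφ, hψ, hψi, hcomp⟩ := exists_data hA.1 hinj
  haveI := hN; haveI := hint
  haveI : IsDomain (CAlg2.red A) := hA.1.1
  haveI : IsLocalRing (CAlg2.normRed A) := hA.1.2
  refine flat_of_forall_normRed hA.1 hint hinjN q fun P₀ _ hP₀ => ?_
  obtain ⟨P, hPp, hP, hPm, hflat⟩ := h
  haveI := hPp
  haveI := henselianLocalRing_valuationSubring V
  haveI : IsAlgClosed (ResidueField V) := H06EGA14.isAlgClosed_residueField V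
  letI := φ.toAlgebra; letI := ψ.toAlgebra
  letI : Algebra A V := (φ.comp (algebraMap A A')).toAlgebra
  haveI : IsScalarTower A A' V := IsScalarTower.of_algebraMap_eq fun _ => rfl
  haveI : IsScalarTower A (CAlg2.normRed A) V :=
    IsScalarTower.of_algebraMap_eq fun a => (RingHom.congr_fun hcomp a).symm
  haveI : IsLocalHom (algebraMap A' V) := hφ
  haveI : IsLocalHom (algebraMap (CAlg2.normRed A) V) := hψ
  obtain ⟨Q, hQp, hQ, hQP⟩ := exists_prime_above (V := V) P hPm
  haveI := hQp
  subst hQP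
  have h1 := flat_over_normal (A' := A') (N := CAlg2.normRed A) hψi Q hQ hflat
  let π := Algebra.TensorProduct.map (IsScalarTower.toAlgHom A (CAlg2.normRed A) V) (AlgHom.id A B)
  have e : Q.comap π.toRingHom = P₀ := eq_of_geomUnibranch hA hint q hq _ _ (by
    rw [← hP, Ideal.comap_comap, Ideal.comap_comap]
    congr 1
    exact RingHom.ext fun b => by
      show π ((1 : CAlg2.normRed A) ⊗ₜ[A] b) =
        Algebra.TensorProduct.map (IsScalarTower.toAlgHom A A' V) (AlgHom.id A B) ((1 : A') ⊗ₜ[A] b)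
      simp [π]) hP₀
  subst e
  exact h1

end Groth.Agent.H06Unibr
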