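import Groth.Agent.H06Unibr.Core
import Groth.Agent.H8Props.FlatAtBaseChange
import Groth.Agent.H1CAlg.GRingStrict
import Groth.Agent.H9Hens.BranchCompletion
import Groth.Agent.H9Hens.PtNormal
import Groth.Agent.H9Hens.PtBase
import Groth.Agent.H9Hens.Noetherian
import Mathlib

/-!
# Descent of flatness over a normal local G-ring
-/

set_option autoImplicit false
set_option linter.style.haveILetI false
set_option backward.isDefEq.respectTransparency false
set_option maxHeartbeats 1000000

universe u

open TensorProduct IsLocalRing Polynomial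

namespace Groth.Agent.H06Unibr

/-- Valuation rings of algebraically closed fields are henselian. -/
theorem henselianLocalRing_valuationSubring {E : Type u} [Field E] [IsAlgClosed E] (V : ValuationSubring E) :
    HenselianLocalRing V where
  is_henselian f hf a₀ h₁ _ := by
    let g := f.map (algebraMap V E)
    have hroot : ∀ r ∈ g.roots, ∃ y : V, (y : E) = r := fun r hr => by
      have hr' : g.IsRoot r := (Polynomial.mem_roots'.1 hr).2
      rw [Polynomial.IsRoot, Polynomial.eval_map] at hr'
      obtain ⟨y, hy⟩ := IsIntegrallyClosed.isIntegral_iff.mp (show IsIntegral V r from ⟨f, hf, hr'⟩)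
      exact ⟨y, hy⟩
    choose y hy using hroot
    let ys := g.roots.attach.map fun r => y r.1 r.2
    have hf' : f = (ys.map fun z => X - C z).prod := by
      refine Polynomial.map_injective _ (IsFractionRing.injective V E) ?_
      rw [Polynomial.map_multiset_prod, Multiset.map_map, Multiset.map_map]
      refine ((IsAlgClosed.splits g).eq_prod_roots_of_monic (hf.map _)).trans ?_
      congr 1
      conv_lhs => rw [← Multiset.attach_map_val g.roots, Multiset.map_map]
      refine Multiset.map_congr rfl fun r _ => ?_
      simp only [Function.comp_apply, Polynomial.map_sub, Polynomial.map_X, Polynomial.map_C]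
      rw [show algebraMap V E (y r.1 r.2) = r.1 from hy r.1 r.2]
    rw [hf', Polynomial.eval_multiset_prod, Multiset.map_map] at h₁
    obtain ⟨w, hw, hzm⟩ := ((maximalIdeal.isMaximal V).isPrime.multiset_prod_mem_iff_exists_mem _).1 h₁
    obtain ⟨z, hz, rfl⟩ := Multiset.mem_map.1 hw
    refine ⟨z, ?_, ?_⟩
    · rw [hf', Polynomial.IsRoot, Polynomial.eval_multiset_prod, Multiset.map_map]
      exact Multiset.prod_eq_zero (Multiset.mem_map.2 ⟨z, hz, by simp⟩)
    · simp only [Function.comp_apply, Polynomial.eval_sub, Polynomial.eval_X, Polynomial.eval_C] at hzm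
      rw [← neg_sub]
      exact neg_mem hzm

theorem flat_of_normal_gRing {A B : Type u} [CommRing A] [CommRing B] [Algebra A B]
    [IsLocalRing A] [IsNoetherianRing A] [IsDomain A] [IsIntegrallyClosed A]
    (hG : H05EGA4.GRSHom 1 2 A (EGA4.Cpl A))
    [Algebra.FinitePresentation A B] {V : Type u} [CommRing V] [IsDomain V] [HenselianLocalRing V]
    [IsSepClosed (ResidueField V)] [Algebra A V]
    [IsLocalHom (algebraMap A V)] (hinj : Function.Injective (algebraMap A V))
    (Q : Ideal (V ⊗[A] B)) [Q.IsPrime] (hQ : Q.comap (algebraMap V (V ⊗[A] B)) = maximalIdeal V)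
    (hflat : Module.Flat V (Localization.AtPrime Q)) :
    Module.Flat A (Localization.AtPrime
      (Q.comap (Algebra.TensorProduct.includeRight : B →ₐ[A] V ⊗[A] B).toRingHom)) := by
  obtain ⟨k, _, _, _, _, _, H, _, _, _, _, π, hπ, hH⟩ := H9Hens.exists_isStrictHenselization_colim A
  haveI := hH
  haveI : HenselianLocalRing H := hH.henselian
  haveI : IsDomain H := hπ.isDomain
  haveI : IsNoetherianRing H := hπ.isNoetherianRing (H9Hens.ker_algebraMap_of_tower (R := A) (k := k))
  haveI : IsDomain (AdicCompletion (maximalIdeal H) H) :=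
    H9Hens.isDomain_cpl_of_henselian (H1CAlg.GRingStrict.grsHom_cpl_strictHenselization A H hG)
  haveI := hH.isSepClosure
  haveI : IsSepClosed (ResidueField H) := IsSepClosure.sep_closed (ResidueField A)
  haveI : Algebra.IsSeparable (ResidueField A) (ResidueField H) := IsSepClosure.separable
  letI : Algebra (ResidueField A) (ResidueField V) := (ResidueField.map (algebraMap A V)).toAlgebra
  let τ : ResidueField H →ₐ[ResidueField A] ResidueField V := IsSepClosed.lift
  obtain ⟨g, ⟨hg, hgres⟩, -⟩ := hH.universal V (algebraMap A V) τ.toRingHom (RingHom.ext fun x => τ.commutes x)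
  letI : Algebra H V := g.toAlgebra
  haveI : IsScalarTower A H V := IsScalarTower.of_algebraMap_eq fun a => (RingHom.congr_fun hg a).symm
  haveI : IsLocalHom (algebraMap H V) := ⟨fun x hx => by
    rw [← IsLocalRing.residue_ne_zero_iff_isUnit] at hx ⊢
    intro h0
    exact hx ((hgres x).trans (by rw [h0]; exact map_zero _))⟩
  have hinjH : Function.Injective (algebraMap H V) := by
    rw [RingHom.injective_iff_ker_eq_bot, eq_bot_iff]
    intro x hx
    haveI : (RingHom.ker (algebraMap H V)).IsPrime := RingHom.ker_isPrime _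
    obtain ⟨c, hc, hcx⟩ := hπ.exists_mul_mem_map (RingHom.ker (algebraMap H V)) hx
    have h0 : (RingHom.ker (algebraMap H V)).comap (algebraMap A H) = ⊥ := by
      rw [eq_bot_iff]
      intro a ha
      rw [Ideal.mem_comap, RingHom.mem_ker, ← IsScalarTower.algebraMap_apply] at ha
      exact (Submodule.mem_bot _).2 ((injective_iff_map_eq_zero _).1 hinj a ha)
    rw [h0, Ideal.map_bot, Ideal.mem_bot] at hcx
    rcases mul_eq_zero.1 hcx with h | h
    · exact absurd (h ▸ zero_mem _) hc
    · exact h
  let B₁ := H ⊗[A] B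
  let e : V ⊗[H] B₁ ≃ₐ[V] V ⊗[A] B := Algebra.TensorProduct.cancelBaseChange A H V V B
  let Q₁ := Q.comap e.toAlgHom.toRingHom
  have hQ₁ : Q₁.comap (algebraMap V (V ⊗[H] B₁)) = maximalIdeal V := by
    rw [← hQ, Ideal.comap_comap]
    congr 1
    exact RingHom.ext fun v => e.commutes v
  have h1 := flat_of_complete_domain_sepClosed hinjH Q₁ hQ₁ ((flat_localization_algEquiv e Q).2 hflat)
  letI : Algebra B B₁ := Algebra.TensorProduct.rightAlgebra
  let q₁ := Q₁.comap (Algebra.TensorProduct.includeRight : B₁ →ₐ[H] V ⊗[H] B₁).toRingHom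
  haveI := hπ.flat
  haveI : Algebra.IsPushout A B H B₁ := Algebra.IsPushout.symm (inferInstance : Algebra.IsPushout A H B B₁)
  have h2 : Module.Flat A (LocalizedModule (q₁.comap (algebraMap B B₁)).primeCompl B) :=
    H8Props.FlatAtBC.flat_localizedModule_descend (R := A) (S := B) (R' := H) (S' := B₁) (M := B) (M' := B₁)
      (Algebra.linearMap B B₁) (IsBaseChange.linearMap B B₁) q₁ h1
      (haveI : Module.Flat H (Localization.AtPrime (q₁.comap (algebraMap H B₁))) :=
        IsLocalization.flat _ (q₁.comap (algebraMap H B₁)).primeCompl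
       Module.Flat.trans A H _)
  have key : ∀ (I J : Ideal B) [I.IsPrime] [J.IsPrime], I = J →
      Module.Flat A (Localization.AtPrime I) → Module.Flat A (Localization.AtPrime J) := by
    intro I J _ _ hIJ hh
    subst hIJ
    exact hh
  refine key _ _ ?_ h2
  rw [Ideal.comap_comap, Ideal.comap_comap]
  congr 1
  ext b
  show e ((1 : V) ⊗ₜ[H] ((1 : H) ⊗ₜ[A] b)) = (1 : V) ⊗ₜ[A] b
  rw [Algebra.TensorProduct.cancelBaseChange_tmul, one_smul]

end Groth.Agent.H06Unibr
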