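import Groth.Agent.H06Unibr.Normal
import Groth.Agent.H06Unibr.Dict
import Groth.Agent.H06EGA14.Lifting
import Groth.Agent.S2564
import Groth.Prelude.Def_CAlg2
import Mathlib

/-!
# Descent of flatness over unibranch local domains (EGA IV 11.5)
-/

set_option autoImplicit false
set_option linter.style.haveILetI false
set_option backward.isDefEq.respectTransparency false
set_option maxHeartbeats 1000000

universe u

open TensorProduct IsLocalRing

namespace Groth.Agent.H06Unibr

/-- A strictly henselian local domain dominating `A'` into which `A` injects. -/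
theorem exists_valuation {A A' : Type u} [CommRing A] [IsDomain A] [CommRing A'] [IsLocalRing A']
    [Algebra A A'] (hinj : Function.Injective (algebraMap A A')) :
    ∃ (E : Type u) (_ : Field E) (_ : IsAlgClosed E) (V : ValuationSubring E) (φ : A' →+* V),
      IsLocalHom φ ∧ Function.Injective (φ.comp (algebraMap A A')) := by
  obtain ⟨p, hp, hp'⟩ : ∃ p : Ideal A', p.IsPrime ∧ p.comap (algebraMap A A') = ⊥ := by
    obtain ⟨p, hp, -, hpA⟩ := Ideal.exists_comap_eq_of_mem_minimalPrimes
      (R := A) (S := A') (f := algebraMap A A') (I := (⊥ : Ideal A')) (⊥ : Ideal A) (by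
      rw [Ideal.comap_bot_of_injective _ hinj]
      exact ⟨⟨Ideal.isPrime_bot, le_rfl⟩, fun q hq _ => bot_le⟩)
    exact ⟨p, hp, hpA⟩
  haveI := hp
  haveI : IsLocalRing (A' ⧸ p) := IsLocalRing.of_surjective' _ Ideal.Quotient.mk_surjective
  let E := AlgebraicClosure (FractionRing (A' ⧸ p))
  let g : A' ⧸ p →+* E := (algebraMap (FractionRing (A' ⧸ p)) E).comp (algebraMap _ (FractionRing (A' ⧸ p)))
  have hg : Function.Injective g :=
    (algebraMap (FractionRing (A' ⧸ p)) E).injective.comp (IsFractionRing.injective (A' ⧸ p) (FractionRing (A' ⧸ p)))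
  obtain ⟨V, hV, hloc⟩ := IsLocalRing.exists_factor_valuationRing g
  refine ⟨E, inferInstance, inferInstance, V, (g.codRestrict V.toSubring hV).comp (Ideal.Quotient.mk p), ?_, ?_⟩
  · haveI : IsLocalHom (Ideal.Quotient.mk p) := IsLocalHom.of_surjective _ Ideal.Quotient.mk_surjective
    haveI := hloc
    exact RingHom.isLocalHom_comp _ _
  · intro a b hab
    have h1 : Ideal.Quotient.mk p (algebraMap A A' a) = Ideal.Quotient.mk p (algebraMap A A' b) :=
      hg (congrArg Subtype.val hab)
    rw [Ideal.Quotient.mk_eq_mk_iff_sub_mem, ← map_sub] at h1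
    exact sub_eq_zero.1 ((Submodule.mem_bot A).1 (hp' ▸ h1))

variable {A A' B : Type u} [CommRing A] [CommRing A'] [CommRing B] [Algebra A A'] [Algebra A B]

/-- A flat point over `A'` gives a flat point over the normalization. -/
theorem flat_over_normal {N V : Type u} [CommRing N] [IsDomain N] [IsIntegrallyClosed N] [IsLocalRing N]
    [Algebra A N] [CommRing V] [IsDomain V] [HenselianLocalRing V] [IsSepClosed (ResidueField V)]
    [Algebra A V] [Algebra N V] [IsScalarTower A N V] [IsLocalHom (algebraMap N V)]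
    (hinj : Function.Injective (algebraMap N V)) [Algebra A' V] [IsScalarTower A A' V]
    [Algebra.FinitePresentation A B] (Q : Ideal (V ⊗[A] B)) [Q.IsPrime]
    (hQ : Q.comap (algebraMap V (V ⊗[A] B)) = maximalIdeal V)
    (hflat : Module.Flat A' (Localization.AtPrime (Q.comap
      (Algebra.TensorProduct.map (IsScalarTower.toAlgHom A A' V) (AlgHom.id A B)).toRingHom))) :
    Module.Flat N (Localization.AtPrime (Q.comap
      (Algebra.TensorProduct.map (IsScalarTower.toAlgHom A N V) (AlgHom.id A B)).toRingHom)) := by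
  have key : ∀ {C : Type u} [CommRing C] [Algebra A C] (I J : Ideal (C ⊗[A] B)) [I.IsPrime] [J.IsPrime], I = J →
      Module.Flat C (Localization.AtPrime I) → Module.Flat C (Localization.AtPrime J) := by
    intro C _ _ I J _ _ hIJ hh
    subst hIJ
    exact hh
  have hV : Module.Flat V (Localization.AtPrime Q) := by
    let e : V ⊗[A'] (A' ⊗[A] B) ≃ₐ[V] V ⊗[A] B := Algebra.TensorProduct.cancelBaseChange A A' V V B
    refine (flat_localization_algEquiv e Q).1 ?_
    letI : Algebra (A' ⊗[A] B) (V ⊗[A'] (A' ⊗[A] B)) := Algebra.TensorProduct.rightAlgebra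
    haveI : Algebra.IsPushout A' (A' ⊗[A] B) V (V ⊗[A'] (A' ⊗[A] B)) :=
      Algebra.IsPushout.symm (inferInstance : Algebra.IsPushout A' V (A' ⊗[A] B) (V ⊗[A'] (A' ⊗[A] B)))
    refine H8Props.FlatAtBC.flat_localizedModule_of_comap (R := A') (S := A' ⊗[A] B) (R' := V)
      (S' := V ⊗[A'] (A' ⊗[A] B)) (M := A' ⊗[A] B) (M' := V ⊗[A'] (A' ⊗[A] B))
      (Algebra.linearMap (A' ⊗[A] B) _) (IsBaseChange.linearMap _ _) (Q.comap e.toAlgHom.toRingHom) ?_
    refine key _ _ ?_ hflat
    rw [Ideal.comap_comap]
    congr 1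
    refine RingHom.ext fun t => ?_
    induction t using TensorProduct.induction_on with
    | zero => simp
    | add a b ha hb => simp only [map_add, ha, hb]
    | tmul a b =>
      show algebraMap A' V a ⊗ₜ[A] b = e ((1 : V) ⊗ₜ[A'] (a ⊗ₜ[A] b))
      rw [Algebra.TensorProduct.cancelBaseChange_tmul, Algebra.algebraMap_eq_smul_one]
  let e : V ⊗[N] (N ⊗[A] B) ≃ₐ[V] V ⊗[A] B := Algebra.TensorProduct.cancelBaseChange A N V V B
  let Q₁ := Q.comap e.toAlgHom.toRingHom
  have hQ₁ : Q₁.comap (algebraMap V (V ⊗[N] (N ⊗[A] B))) = maximalIdeal V := by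
    rw [← hQ, Ideal.comap_comap]
    congr 1
    exact RingHom.ext fun v => e.commutes v
  refine key _ _ ?_ (flat_of_normal hinj Q₁ hQ₁ ((flat_localization_algEquiv e Q).2 hV))
  rw [Ideal.comap_comap]
  congr 1
  refine RingHom.ext fun t => ?_
  induction t using TensorProduct.induction_on with
  | zero => simp
  | add a b ha hb => simp only [map_add, ha, hb]
  | tmul a b =>
    show e ((1 : V) ⊗ₜ[N] (a ⊗ₜ[A] b)) = algebraMap N V a ⊗ₜ[A] b
    rw [Algebra.TensorProduct.cancelBaseChange_tmul, Algebra.algebraMap_eq_smul_one]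

/-- Data: the normalization, mapped into a strictly henselian local domain dominating `A'`. -/
theorem exists_data [IsDomain A] [IsLocalRing A] (hA : CAlg2.IsUnibranch A) [IsLocalRing A']
    [IsLocalHom (algebraMap A A')] (hinj : Function.Injective (algebraMap A A')) :
    IsIntegrallyClosed (CAlg2.normRed A) ∧ Algebra.IsIntegral A (CAlg2.normRed A) ∧
      Function.Injective (algebraMap A (CAlg2.normRed A)) ∧
      ∃ (E : Type u) (_ : Field E) (_ : IsAlgClosed E) (V : ValuationSubring E) (φ : A' →+* V)
        (ψ : CAlg2.normRed A →+* V), IsLocalHom φ ∧ IsLocalHom ψ ∧ Function.Injective ψ ∧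
          ψ.comp (algebraMap A (CAlg2.normRed A)) = φ.comp (algebraMap A A') := by
  haveI : IsDomain (CAlg2.red A) := hA.1
  haveI : IsLocalRing (CAlg2.normRed A) := hA.2
  have hnil : nilradical A = ⊥ := nilradical_eq_zero A
  haveI : Algebra.IsIntegral A (CAlg2.red A) :=
    Algebra.IsIntegral.of_surjective (Algebra.ofId A _) Ideal.Quotient.mk_surjective
  haveI : Algebra.IsIntegral A (CAlg2.normRed A) := Algebra.IsIntegral.trans (CAlg2.red A)
  have hinjr : Function.Injective (algebraMap A (CAlg2.red A)) := by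
    rw [RingHom.injective_iff_ker_eq_bot, Ideal.Quotient.algebraMap_eq, Ideal.mk_ker, hnil]
  refine ⟨integralClosure.isIntegrallyClosedOfFiniteExtension (FractionRing (CAlg2.red A)), inferInstance, ?_, ?_⟩
  · intro a b hab
    exact hinjr (IsFractionRing.injective (CAlg2.red A) (FractionRing (CAlg2.red A)) (congrArg Subtype.val hab))
  obtain ⟨E, _, _, V, φ, hφ, hφA⟩ := exists_valuation (A := A) hinj
  let f : A →+* E := V.subtype.comp (φ.comp (algebraMap A A'))
  let f' : CAlg2.red A →+* E := Ideal.Quotient.lift (nilradical A) f fun a ha => by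
    rw [hnil] at ha
    rw [(Submodule.mem_bot A).1 ha, map_zero]
  have hf' : Function.Injective f' := by
    intro x y hxy
    obtain ⟨a, rfl⟩ := Ideal.Quotient.mk_surjective x
    obtain ⟨b, rfl⟩ := Ideal.Quotient.mk_surjective y
    rw [hφA (Subtype.ext hxy)]
  let σ : FractionRing (CAlg2.red A) →+* E := IsFractionRing.lift hf'
  let β : CAlg2.normRed A →+* E := σ.comp (integralClosure (CAlg2.red A) (FractionRing (CAlg2.red A))).val.toRingHom
  have hβ : β.comp (algebraMap A (CAlg2.normRed A)) = f := by
    refine RingHom.ext fun a => ?_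
    show σ (algebraMap (CAlg2.red A) (FractionRing (CAlg2.red A)) (Ideal.Quotient.mk _ a)) = f a
    exact (IsFractionRing.lift_algebraMap hf' _).trans (Ideal.Quotient.lift_mk _ _ _)
  have hmem : ∀ n, β n ∈ V := H06EGA14.mem_of_isIntegral V (φ.comp (algebraMap A A')) β hβ
  refine ⟨E, inferInstance, inferInstance, V, φ, β.codRestrict V.toSubring hmem, hφ, ?_, ?_, ?_⟩
  · let ψ : CAlg2.normRed A →+* V := β.codRestrict V.toSubring hmem
    have hm : (maximalIdeal V).comap ψ = maximalIdeal (CAlg2.normRed A) := by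
      refine IsLocalRing.eq_maximalIdeal (Ideal.isMaximal_of_isIntegral_of_isMaximal_comap (R := A) _ ?_)
      have : ((maximalIdeal V).comap ψ).comap (algebraMap A (CAlg2.normRed A)) = maximalIdeal A := by
        haveI := hφ
        haveI : IsLocalHom (φ.comp (algebraMap A A')) := RingHom.isLocalHom_comp _ _
        rw [Ideal.comap_comap, show ψ.comp (algebraMap A (CAlg2.normRed A)) = φ.comp (algebraMap A A') from
          RingHom.ext fun a => Subtype.ext (RingHom.congr_fun hβ a)]
        exact IsLocalRing.maximalIdeal_comap _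
      rw [this]
      exact maximalIdeal.isMaximal A
    refine ⟨fun n hn => ?_⟩
    by_contra h
    exact (hm.ge ((mem_maximalIdeal n).2 h) : ψ n ∈ maximalIdeal V) hn
  · intro a b hab
    exact Subtype.ext (σ.injective (congrArg Subtype.val hab))
  · exact RingHom.ext fun a => Subtype.ext (RingHom.congr_fun hβ a)

theorem comap_maximalIdeal_eq {R S : Type u} [CommRing R] [CommRing S] [IsLocalRing R] [IsLocalRing S]
    (f : R →+* S) [IsLocalHom f] : (maximalIdeal S).comap f = maximalIdeal R :=
  IsLocalRing.maximalIdeal_comap f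

end Groth.Agent.H06Unibr
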