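import Groth.Agent.H06Unibr.Henselize
import Groth.Agent.H02CA.HensApprox.Main
import Groth.Agent.H1CAlg.NagataFiniteType
import Groth.Agent.H9Hens.GRingLocal
import Groth.Agent.S2654
import Mathlib

/-!
# Descent of flatness over a normal local domain
-/

set_option autoImplicit false
set_option linter.style.haveILetI false
set_option backward.isDefEq.respectTransparency false
set_option maxHeartbeats 1000000

universe u

open TensorProduct IsLocalRing

namespace Groth.Agent.H06Unibr

theorem isNagata_int : CAlg.IsNagata (ULift.{u} ℤ) := by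
  haveI : IsDomain (ULift.{u} ℤ) := (ULift.ringEquiv (R := ℤ)).symm.isDomain_iff.mp inferInstance
  haveI : IsPrincipalIdealRing (ULift.{u} ℤ) :=
    IsPrincipalIdealRing.of_surjective (ULift.ringEquiv (R := ℤ)).symm.toRingHom (RingEquiv.surjective _)
  haveI : IsDedekindDomain (ULift.{u} ℤ) := inferInstance
  haveI : CharZero (ULift.{u} ℤ) :=
    charZero_of_injective_ringHom (f := (ULift.ringEquiv (R := ℤ)).symm.toRingHom) (RingEquiv.injective _)
  obtain ⟨h1, -, h3, h4⟩ := S2653.result (ULift.{u} ℤ)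
  exact S2654.result _ ⟨h1, h3, h4⟩

/-- A finitely generated `ℤ`-domain inside a normal domain lies in a normal one, finite over it, which is a
G-ring. -/
theorem exists_normal_stage {A : Type u} [CommRing A] [IsDomain A] [IsIntegrallyClosed A]
    (C₀ : Type u) [CommRing C₀] [Algebra C₀ A] (hinj : Function.Injective (algebraMap C₀ A))
    [Algebra.FiniteType ℤ C₀] :
    ∃ (N : Type u) (_ : CommRing N) (_ : IsDomain N) (_ : Algebra C₀ N) (ψ : N →+* A),
      IsIntegrallyClosed N ∧ CAlg.IsGRing N ∧ Function.Injective ψ ∧ ψ.comp (algebraMap C₀ N) = algebraMap C₀ A := by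
  haveI : IsDomain C₀ := hinj.isDomain
  letI : Algebra (ULift.{u} ℤ) C₀ := ((Int.castRingHom C₀).comp (ULift.ringEquiv (R := ℤ)).toRingHom).toAlgebra
  haveI : Algebra.FiniteType (ULift.{u} ℤ) C₀ :=
    RingHom.finiteType_algebraMap.1 (RingHom.FiniteType.of_comp_finiteType
      (f := (ULift.ringEquiv (R := ℤ)).symm.toRingHom) (g := algebraMap (ULift.{u} ℤ) C₀) (by
        rw [show (algebraMap (ULift.{u} ℤ) C₀).comp (ULift.ringEquiv (R := ℤ)).symm.toRingHom = algebraMap ℤ C₀ from
          RingHom.ext_int _ _]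
        exact RingHom.finiteType_algebraMap.2 inferInstance))
  have hN : CAlg.IsNagata C₀ := H1CAlg.isNagata_of_finiteType isNagata_int
  have hGC : CAlg.IsGRing C₀ := H05EGA4.isGRing_of_finiteType H02CA.HensApprox.isGRing_int
  have hN2 : CAlg.IsN2 C₀ := H1CAlg.isN2_of_ringEquiv (RingEquiv.quotientBot C₀) (hN.2 ⊥)
  let K₀ := FractionRing C₀
  let K := FractionRing A
  let σ : K₀ →+* K := IsFractionRing.lift (A := C₀) (g := (algebraMap A K).comp (algebraMap C₀ A))
    ((IsFractionRing.injective A K).comp hinj)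
  let N := integralClosure C₀ K₀
  haveI : Module.Finite C₀ N := hN2 K₀ inferInstance
  haveI : IsIntegrallyClosed N := integralClosure.isIntegrallyClosedOfFiniteExtension K₀
  haveI : Algebra.FiniteType C₀ N := inferInstance
  have hGN : CAlg.IsGRing N := H05EGA4.isGRing_of_finiteType hGC
  have hσ : ∀ c, σ (algebraMap C₀ K₀ c) = algebraMap A K (algebraMap C₀ A c) := fun c =>
    IsFractionRing.lift_algebraMap _ c
  have hmem : ∀ n : N, ∃ a : A, algebraMap A K a = σ n := fun n => by
    obtain ⟨p, hp, hpn⟩ := n.2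
    refine IsIntegrallyClosed.isIntegral_iff.1 ⟨p.map (algebraMap C₀ A), hp.map _, ?_⟩
    have h := congrArg σ hpn
    rw [Polynomial.hom_eval₂, map_zero] at h
    rw [Polynomial.eval₂_map, ← h]
    congr 1
    exact RingHom.ext fun c => (hσ c).symm
  choose ψ hψ using hmem
  have hinjA := IsFractionRing.injective A K
  refine ⟨N, inferInstance, inferInstance, inferInstance,
    { toFun := ψ
      map_one' := hinjA (by rw [hψ, map_one]; exact map_one σ)
      map_mul' := fun a b => hinjA (by rw [map_mul, hψ, hψ, hψ]; exact map_mul σ _ _)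
      map_zero' := hinjA (by rw [hψ, map_zero]; exact map_zero σ)
      map_add' := fun a b => hinjA (by rw [map_add, hψ, hψ, hψ]; exact map_add σ _ _) },
    inferInstance, hGN, fun a b hab => ?_, ?_⟩
  · exact Subtype.ext (σ.injective (by rw [← hψ, ← hψ]; exact congrArg _ hab))
  · exact RingHom.ext fun c => hinjA ((hψ _).trans (hσ c))

/-- Descent of flatness through a model over a normal local G-ring. -/
theorem flat_of_model {A₀ A B₀ B V : Type u} [CommRing A₀] [CommRing A] [CommRing B₀] [CommRing B] [CommRing V]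
    [IsLocalRing A₀] [IsNoetherianRing A₀] [IsDomain A₀] [IsIntegrallyClosed A₀]
    (hG : H05EGA4.GRSHom 1 2 A₀ (EGA4.Cpl A₀)) [Algebra A₀ A] [Algebra A₀ B₀]
    [Algebra.FinitePresentation A₀ B₀] [Algebra A B] (eB : A ⊗[A₀] B₀ ≃ₐ[A] B) [IsDomain V]
    [HenselianLocalRing V] [IsSepClosed (ResidueField V)] [Algebra A V] [Algebra A₀ V] [IsScalarTower A₀ A V]
    [IsLocalHom (algebraMap A₀ V)] (hinj : Function.Injective (algebraMap A₀ V))
    (Q : Ideal (V ⊗[A] B)) [Q.IsPrime] (hQ : Q.comap (algebraMap V (V ⊗[A] B)) = maximalIdeal V)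
    (hflat : Module.Flat V (Localization.AtPrime Q)) :
    Module.Flat A (Localization.AtPrime
      (Q.comap (Algebra.TensorProduct.includeRight : B →ₐ[A] V ⊗[A] B).toRingHom)) := by
  let e : V ⊗[A₀] B₀ ≃ₐ[V] V ⊗[A] B :=
    (Algebra.TensorProduct.cancelBaseChange A₀ A V V B₀).symm.trans
      (Algebra.TensorProduct.congr AlgEquiv.refl eB)
  let Q₀ := Q.comap e.toAlgHom.toRingHom
  have hQ₀ : Q₀.comap (algebraMap V (V ⊗[A₀] B₀)) = maximalIdeal V := by
    rw [← hQ, Ideal.comap_comap]
    congr 1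
    exact RingHom.ext fun v => e.commutes v
  have h1 := flat_of_normal_gRing hG hinj Q₀ hQ₀ ((flat_localization_algEquiv e Q).2 hflat)
  let q := Q.comap (Algebra.TensorProduct.includeRight : B →ₐ[A] V ⊗[A] B).toRingHom
  let q' : Ideal (A ⊗[A₀] B₀) := q.comap eB.toAlgHom.toRingHom
  refine (flat_localization_algEquiv eB q).1 ?_
  letI : Algebra B₀ (A ⊗[A₀] B₀) := Algebra.TensorProduct.rightAlgebra
  haveI : Algebra.IsPushout A₀ B₀ A (A ⊗[A₀] B₀) :=
    Algebra.IsPushout.symm (inferInstance : Algebra.IsPushout A₀ A B₀ (A ⊗[A₀] B₀))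
  refine H8Props.FlatAtBC.flat_localizedModule_of_comap (R := A₀) (S := B₀) (R' := A) (S' := A ⊗[A₀] B₀)
    (M := B₀) (M' := A ⊗[A₀] B₀) (Algebra.linearMap B₀ (A ⊗[A₀] B₀)) (IsBaseChange.linearMap _ _) q' ?_
  have key : ∀ (I J : Ideal B₀) [I.IsPrime] [J.IsPrime], I = J →
      Module.Flat A₀ (Localization.AtPrime I) → Module.Flat A₀ (Localization.AtPrime J) := by
    intro I J _ _ hIJ hh
    subst hIJ
    exact hh
  refine key _ _ ?_ h1
  ext b
  show e ((1 : V) ⊗ₜ[A₀] b) ∈ Q ↔ (1 : V) ⊗ₜ[A] eB ((1 : A) ⊗ₜ[A₀] b) ∈ Q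
  rw [show e ((1 : V) ⊗ₜ[A₀] b) = (1 : V) ⊗ₜ[A] eB ((1 : A) ⊗ₜ[A₀] b) by simp [e]]

/-- Descent of flatness over a normal local domain, from one point over the closed point. -/
theorem flat_of_normal {A B : Type u} [CommRing A] [CommRing B] [Algebra A B] [IsLocalRing A] [IsDomain A]
    [IsIntegrallyClosed A] [Algebra.FinitePresentation A B] {V : Type u} [CommRing V] [IsDomain V]
    [HenselianLocalRing V] [IsSepClosed (ResidueField V)] [Algebra A V]
    [IsLocalHom (algebraMap A V)] (hinjV : Function.Injective (algebraMap A V))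
    (Q : Ideal (V ⊗[A] B)) [Q.IsPrime] (hQ : Q.comap (algebraMap V (V ⊗[A] B)) = maximalIdeal V)
    (hflat : Module.Flat V (Localization.AtPrime Q)) :
    Module.Flat A (Localization.AtPrime
      (Q.comap (Algebra.TensorProduct.includeRight : B →ₐ[A] V ⊗[A] B).toRingHom)) := by
  let P := Algebra.Presentation.ofFinitePresentation A B
  obtain ⟨N, _, _, _, ψ, hN, hG, hψ, hcomp⟩ :=
    exists_normal_stage (A := A) P.Core (FaithfulSMul.algebraMap_injective P.Core A)
  let p : Ideal N := (maximalIdeal A).comap ψ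
  let A₀ := Localization.AtPrime p
  haveI : IsDomain A₀ := IsLocalization.isDomain_localization p.primeCompl_le_nonZeroDivisors
  haveI : IsIntegrallyClosed A₀ :=
    isIntegrallyClosed_of_isLocalization A₀ p.primeCompl p.primeCompl_le_nonZeroDivisors
  have hG₀ : CAlg.IsGRing A₀ := H05EGA4.isGRing_of_isLocalization p.primeCompl hG
  haveI := hG₀.1
  have hu : ∀ y : p.primeCompl, IsUnit (ψ y) := fun y => by
    by_contra hn
    exact y.2 (show ψ y ∈ maximalIdeal A from hn)
  let j : A₀ →+* A := IsLocalization.lift hu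
  have hj : Function.Injective j := by
    refine (IsLocalization.lift_injective_iff hu).2 fun a b => ⟨fun h => ?_, fun h => ?_⟩
    · exact congrArg _ (IsLocalization.injective A₀ p.primeCompl_le_nonZeroDivisors h)
    · exact congrArg _ (hψ h)
  letI : Algebra A₀ A := j.toAlgebra
  letI : Algebra A₀ B := ((algebraMap A B).comp j).toAlgebra
  haveI : IsScalarTower A₀ A B := IsScalarTower.of_algebraMap_eq fun _ => rfl
  haveI : P.HasCoeffs A₀ := ⟨fun c hc => by
    obtain ⟨c₀, rfl⟩ := Algebra.Presentation.HasCoeffs.coeffs_subset_range (P := P) (R₀ := P.Core) hc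
    refine ⟨algebraMap N A₀ (algebraMap P.Core N c₀), ?_⟩
    show j (algebraMap N A₀ (algebraMap P.Core N c₀)) = _
    rw [IsLocalization.lift_eq]
    exact RingHom.congr_fun hcomp c₀⟩
  let B₀ := P.ModelOfHasCoeffs A₀
  let eB : A ⊗[A₀] B₀ ≃ₐ[A] B := P.tensorModelOfHasCoeffsEquiv A₀
  letI : Algebra A₀ V := ((algebraMap A V).comp j).toAlgebra
  haveI : IsScalarTower A₀ A V := IsScalarTower.of_algebraMap_eq fun _ => rfl
  haveI : IsLocalHom (algebraMap A₀ A) := ⟨fun x hx => by
    obtain ⟨a, b, rfl⟩ := IsLocalization.exists_mk'_eq p.primeCompl x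
    rw [IsLocalization.AtPrime.isUnit_mk'_iff A₀ p]
    intro ha
    have h2 : j (algebraMap N A₀ a) = ψ a := IsLocalization.lift_eq hu a
    rw [← IsLocalization.mk'_spec A₀ a b, map_mul] at h2
    exact (show ψ a ∈ maximalIdeal A from ha) (h2 ▸ hx.mul ((IsLocalization.map_units A₀ b).map j))⟩
  haveI : IsLocalHom (algebraMap A₀ V) := RingHom.isLocalHom_comp (algebraMap A V) (algebraMap A₀ A)
  exact flat_of_model ((H9Hens.grsHom_cpl_of_isGRing A₀ hG₀).mono le_top le_top) eB (hinjV.comp hj) Q hQ hflat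

end Groth.Agent.H06Unibr
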