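import Groth.Agent.H06Unibr.Final

/-!
# Descent of flatness over unibranch local domains: schemes
-/

set_option autoImplicit false
set_option linter.style.haveILetI false
set_option backward.isDefEq.respectTransparency false
set_option maxHeartbeats 1000000

universe u

open CategoryTheory CategoryTheory.Limits AlgebraicGeometry TensorProduct IsLocalRing

namespace Groth.Agent.H06Unibr

variable {A A' : Type u} [CommRing A] [IsLocalRing A] [CommRing A'] [IsLocalRing A'] [Algebra A A']

/-- The points of the fibre product over a chart. -/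
theorem exists_chart {X : Scheme.{u}} (f : X ⟶ Spec (CommRingCat.of A)) [LocallyOfFinitePresentation f] (x : X)
    (hx : f.base x = closedPoint A) :
    ∃ (B : Type u) (_ : CommRing B) (_ : Algebra A B) (_ : Algebra.FinitePresentation A B) (q : Ideal B) (_ : q.IsPrime),
      q.comap (algebraMap A B) = maximalIdeal A ∧
      ((f.stalkMap x).hom.Flat ↔ Module.Flat A (Localization.AtPrime q)) ∧
      (∀ (P : Ideal (A' ⊗[A] B)) [P.IsPrime],
        P.comap (Algebra.TensorProduct.includeRight : B →ₐ[A] A' ⊗[A] B).toRingHom = q →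
        P.comap (algebraMap A' (A' ⊗[A] B)) = maximalIdeal A' →
        ∃ x' : ↥(pullback f (Dict.str A A')), (pullback.fst f _).base x' = x ∧
          (pullback.snd f (Dict.str A A')).base x' = closedPoint A' ∧
          (((pullback.snd f (Dict.str A A')).stalkMap x').hom.Flat → Module.Flat A' (Localization.AtPrime P))) ∧
      (∀ x' : ↥(pullback f (Dict.str A A')), (pullback.fst f _).base x' = x →
        (pullback.snd f (Dict.str A A')).base x' = closedPoint A' →
        ((pullback.snd f (Dict.str A A')).stalkMap x').hom.Flat →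
        ∃ (P : Ideal (A' ⊗[A] B)) (_ : P.IsPrime),
          P.comap (Algebra.TensorProduct.includeRight : B →ₐ[A] A' ⊗[A] B).toRingHom = q ∧
          P.comap (algebraMap A' (A' ⊗[A] B)) = maximalIdeal A' ∧ Module.Flat A' (Localization.AtPrime P)) := by
  obtain ⟨U, hU, hxU, -⟩ := exists_isAffineOpen_mem_and_subset (U := (⊤ : X.Opens)) (x := x) trivial
  obtain ⟨φ, hφ⟩ := Spec.map_surjective (hU.fromSpec ≫ f)
  letI : Algebra A Γ(X, U) := φ.hom.toAlgebra
  haveI := hU.isOpenImmersion_fromSpec
  let i := hU.fromSpec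
  have hi : Dict.str A Γ(X, U) = i ≫ f := hφ
  haveI : Algebra.FinitePresentation A Γ(X, U) :=
    H17.LocusBC.finitePresentation_of_chart f i (𝟙 _) ((Category.comp_id _).trans hi)
  let z := hU.primeIdealOf ⟨x, hxU⟩
  have hz : i z = x := hU.fromSpec_primeIdealOf ⟨x, hxU⟩
  let m : pullback (Dict.str A Γ(X, U)) (Dict.str A A') ⟶ pullback f (Dict.str A A') :=
    pullback.map _ _ f _ i (𝟙 _) (𝟙 _) ((Category.comp_id _).trans hi) (by simp)
  have hm1 : m ≫ pullback.fst f _ = pullback.fst _ _ ≫ i := pullback.lift_fst _ _ _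
  have hm2 : m ≫ pullback.snd f _ = pullback.snd _ _ :=
    (pullback.lift_snd _ _ _).trans (Category.comp_id _)
  have hflat : ∀ w, ((pullback.snd f (Dict.str A A')).stalkMap (m w)).hom.Flat ↔
      Module.Flat A' (Localization.AtPrime ((Dict.iso A Γ(X, U) A').hom w).asIdeal) := fun w => by
    rw [← Dict.flat_snd_iff]
    exact (H17.LocusBC.flat_stalkMap_comp_iff m _ (𝟙 _) (pullback.snd (Dict.str A Γ(X, U)) (Dict.str A A'))
      ((Category.comp_id _).trans hm2.symm) w).symm
  refine ⟨Γ(X, U), inferInstance, inferInstance, inferInstance, z.asIdeal, z.2, ?_, ?_, ?_, ?_⟩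
  · have h1 : Dict.str A Γ(X, U) z = closedPoint A := by
      rw [hi]
      exact (congrArg f hz).trans hx
    exact congrArg PrimeSpectrum.asIdeal h1
  · rw [← hz, ← H17.LocusBC.flat_stalkMap_comp_iff i f (𝟙 _) (Dict.str A Γ(X, U)) ((Category.comp_id _).trans hi) z]
    exact H8Props.FlatLocus.flat_stalkMap_Spec_iff z
  · intro P _ hP hPm
    obtain ⟨w, hw⟩ := Dict.exists_point A Γ(X, U) A' P
    refine ⟨m w, ?_, ?_, fun h => ?_⟩
    · show pullback.fst f _ (m w) = x
      rw [← Scheme.Hom.comp_apply, hm1, Scheme.Hom.comp_apply, ← hz]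
      refine congrArg _ (PrimeSpectrum.ext ?_)
      exact (Dict.fst_asIdeal A Γ(X, U) A' w).trans (by rw [hw]; exact hP)
    · show pullback.snd f _ (m w) = closedPoint A'
      rw [← Scheme.Hom.comp_apply, hm2]
      refine PrimeSpectrum.ext ?_
      exact (Dict.snd_asIdeal A Γ(X, U) A' w).trans (by rw [hw]; exact hPm)
    · have h' := (hflat w).1 h
      subst hw
      exact h'
  · intro x' hx' hxc hfl
    obtain ⟨w, rfl⟩ : x' ∈ Set.range m := by
      rw [show Set.range m = _ from AlgebraicGeometry.Scheme.Pullback.range_map _ _ _ _ _ _ _ _ _]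
      exact ⟨⟨z, hz.trans hx'.symm⟩, ⟨_, rfl⟩⟩
    refine ⟨_, ((Dict.iso A Γ(X, U) A').hom w).2, ?_, ?_, (hflat w).1 hfl⟩
    · rw [← Dict.fst_asIdeal]
      refine congrArg PrimeSpectrum.asIdeal (i.isEmbedding.injective ?_)
      exact (congr($hm1 w)).symm.trans (hx'.trans hz.symm)
    · rw [← Dict.snd_asIdeal]
      refine congrArg PrimeSpectrum.asIdeal (?_ : _ = closedPoint A')
      exact (congr($hm2 w)).symm.trans hxc

end Groth.Agent.H06Unibr
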