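import Groth.Agent.H8Props.FlatLocus.Scheme
import Groth.Agent.H06EGA11.Colimit
import Mathlib

/-!
# Flatness at a prime descends to an essentially finite type local subring
-/

set_option autoImplicit false
set_option linter.style.haveILetI false
set_option backward.isDefEq.respectTransparency false
set_option maxHeartbeats 1000000

universe u

open TensorProduct

namespace Groth.Agent.H06Unibr

/-- Flatness at a prime does not see a localization. -/
theorem flat_localization_comap_iff {R D D' : Type u} [CommRing R] [CommRing D] [CommRing D'] [Algebra R D]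
    [Algebra R D'] [Algebra D D'] [IsScalarTower R D D'] (M : Submonoid D) [IsLocalization M D']
    (Q' : Ideal D') [Q'.IsPrime] :
    Module.Flat R (Localization.AtPrime (Q'.comap (algebraMap D D'))) ↔
      Module.Flat R (Localization.AtPrime Q') := by
  haveI : IsLocalization.AtPrime (Localization.AtPrime Q') (Q'.comap (algebraMap D D')) :=
    IsLocalization.isLocalization_isLocalization_atPrime_isLocalization M (Localization.AtPrime Q') Q'
  let e := IsLocalization.algEquiv (Q'.comap (algebraMap D D')).primeCompl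
    (Localization.AtPrime (Q'.comap (algebraMap D D'))) (Localization.AtPrime Q')
  let eR : Localization.AtPrime (Q'.comap (algebraMap D D')) ≃ₗ[R] Localization.AtPrime Q' :=
    (e.restrictScalars R).toLinearEquiv
  exact Module.Flat.equiv_iff eR

/-- Flatness at a prime transports along isomorphisms. -/
theorem flat_localization_algEquiv {R D D' : Type u} [CommRing R] [CommRing D] [CommRing D'] [Algebra R D]
    [Algebra R D'] (e : D ≃ₐ[R] D') (Q' : Ideal D') [Q'.IsPrime] :
    Module.Flat R (Localization.AtPrime (Q'.comap e.toAlgHom.toRingHom)) ↔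
      Module.Flat R (Localization.AtPrime Q') := by
  letI := e.toAlgHom.toRingHom.toAlgebra
  haveI : IsScalarTower R D D' := IsScalarTower.of_algebraMap_eq fun r => (e.commutes r).symm
  haveI : IsLocalization (⊥ : Submonoid D) D := IsLocalization.self bot_le
  haveI : IsLocalization (⊥ : Submonoid D) D' :=
    IsLocalization.isLocalization_of_algEquiv (⊥ : Submonoid D)
      (AlgEquiv.ofBijective (Algebra.ofId D D') e.bijective)
  exact flat_localization_comap_iff ⊥ Q'

variable {A₁ S₁ B : Type u} [CommRing A₁] [CommRing S₁] [CommRing B] [Algebra A₁ S₁] [Algebra A₁ B]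
  (s : S₁ ⊗[A₁] B)
  (T : Type u) [CommRing T] [Algebra A₁ T] [Algebra S₁ T] [IsScalarTower A₁ S₁ T]

/-- The base change of sections to `T`. -/
noncomputable abbrev upHom : S₁ ⊗[A₁] B →ₐ[A₁] T ⊗[A₁] B :=
  Algebra.TensorProduct.map (IsScalarTower.toAlgHom A₁ S₁ T) (AlgHom.id A₁ B)

/-- The map to the base change of the localization. -/
noncomputable def locHom : T ⊗[A₁] B →ₐ[T] T ⊗[S₁] Localization.Away s :=
  Algebra.TensorProduct.lift (Algebra.TensorProduct.includeLeft)
    (((Algebra.TensorProduct.includeRight : Localization.Away s →ₐ[S₁] T ⊗[S₁] Localization.Away s).comp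
      (IsScalarTower.toAlgHom S₁ (S₁ ⊗[A₁] B) (Localization.Away s))).restrictScalars A₁ |>.comp
        Algebra.TensorProduct.includeRight) fun _ _ => Commute.all _ _

theorem locHom_upHom (t : S₁ ⊗[A₁] B) :
    locHom s T (upHom T t) = 1 ⊗ₜ[S₁] algebraMap (S₁ ⊗[A₁] B) (Localization.Away s) t := by
  induction t using TensorProduct.induction_on with
  | zero => simp
  | add a b ha hb => simp only [map_add, ha, hb, TensorProduct.tmul_add]
  | tmul a b =>
    show (algebraMap S₁ T a ⊗ₜ[S₁] (1 : Localization.Away s)) *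
      ((1 : T) ⊗ₜ[S₁] algebraMap (S₁ ⊗[A₁] B) (Localization.Away s) (1 ⊗ₜ b)) = _
    rw [Algebra.TensorProduct.tmul_mul_tmul, mul_one, one_mul, Algebra.algebraMap_eq_smul_one,
      TensorProduct.smul_tmul, ← algebraMap_smul (S₁ ⊗[A₁] B) a, Algebra.smul_def, ← map_mul,
      Algebra.TensorProduct.algebraMap_apply]
    simp

theorem isLocalizationAway_locHom :
    letI := (locHom s T).toRingHom.toAlgebra
    IsLocalization.Away (upHom T s) (T ⊗[S₁] Localization.Away s) := by
  letI := (locHom s T).toRingHom.toAlgebra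
  let x := upHom T s
  let W := T ⊗[S₁] Localization.Away s
  have hu : IsUnit (locHom s T x) := by
    rw [locHom_upHom]
    exact (IsLocalization.Away.algebraMap_isUnit s).map
      (Algebra.TensorProduct.includeRight : Localization.Away s →ₐ[S₁] W)
  let Φ : Localization.Away x →+* W := IsLocalization.Away.lift x (g := (locHom s T).toRingHom) hu
  have hΦ : ∀ d, Φ (algebraMap _ _ d) = locHom s T d := fun d => IsLocalization.Away.lift_eq x hu d
  let ψ : S₁ ⊗[A₁] B →+* Localization.Away x :=
    (algebraMap (T ⊗[A₁] B) (Localization.Away x)).comp (upHom T).toRingHom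
  have hψ : IsUnit (ψ s) := IsLocalization.Away.algebraMap_isUnit x
  let Ψ₁ : Localization.Away s →ₐ[S₁] Localization.Away x :=
    { IsLocalization.Away.lift s hψ with
      commutes' := fun a => by
        show IsLocalization.Away.lift s hψ (algebraMap S₁ (Localization.Away s) a) = _
        rw [IsScalarTower.algebraMap_apply S₁ (S₁ ⊗[A₁] B), IsLocalization.Away.lift_eq]
        show algebraMap (T ⊗[A₁] B) (Localization.Away x) ((algebraMap S₁ T a) ⊗ₜ 1) =
          algebraMap T (Localization.Away x) (algebraMap S₁ T a)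
        rw [IsScalarTower.algebraMap_apply T (T ⊗[A₁] B) (Localization.Away x)]
        rfl }
  let Ψ : W →ₐ[T] Localization.Away x :=
    Algebra.TensorProduct.lift (Algebra.ofId T _) Ψ₁ fun _ _ => Commute.all _ _
  have hΨ : ∀ d, Ψ (locHom s T d) = algebraMap _ _ d := by
    intro d
    induction d using TensorProduct.induction_on with
    | zero => simp
    | add a b ha hb => simp only [map_add, ha, hb]
    | tmul a b =>
      show Ψ ((a ⊗ₜ[S₁] (1 : Localization.Away s)) *
        ((1 : T) ⊗ₜ[S₁] algebraMap (S₁ ⊗[A₁] B) (Localization.Away s) (1 ⊗ₜ b))) = _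
      rw [Algebra.TensorProduct.tmul_mul_tmul, mul_one, one_mul]
      show Algebra.ofId T (Localization.Away x) a *
        IsLocalization.Away.lift s hψ (algebraMap (S₁ ⊗[A₁] B) (Localization.Away s) (1 ⊗ₜ b)) = _
      rw [IsLocalization.Away.lift_eq, Algebra.ofId_apply, IsScalarTower.algebraMap_apply T (T ⊗[A₁] B)]
      show algebraMap (T ⊗[A₁] B) (Localization.Away x) (a ⊗ₜ 1) *
        algebraMap (T ⊗[A₁] B) (Localization.Away x) (upHom T (1 ⊗ₜ b)) = _
      rw [← map_mul]
      simp [upHom, Algebra.TensorProduct.tmul_mul_tmul]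
  have h1 : Ψ.toRingHom.comp Φ = RingHom.id _ :=
    IsLocalization.ringHom_ext (Submonoid.powers x) (RingHom.ext fun d => by
      show Ψ (Φ (algebraMap _ _ d)) = algebraMap _ _ d
      rw [hΦ, hΨ])
  have hsurj : Function.Surjective Φ := by
    intro w
    induction w using TensorProduct.induction_on with
    | zero => exact ⟨0, map_zero _⟩
    | add a b ha hb =>
      obtain ⟨a, rfl⟩ := ha; obtain ⟨b, rfl⟩ := hb
      exact ⟨a + b, map_add _ _ _⟩
    | tmul a b =>
      obtain ⟨n, b', hb'⟩ := IsLocalization.Away.surj s b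
      obtain ⟨v, hv⟩ := (IsLocalization.Away.algebraMap_isUnit x : IsUnit (algebraMap _ (Localization.Away x) x))
      refine ⟨algebraMap _ (Localization.Away x) ((a ⊗ₜ 1) * upHom T b') * ↑(v⁻¹ ^ n), ?_⟩
      have hx : Φ ↑(v ^ n) = 1 ⊗ₜ[S₁] (algebraMap (S₁ ⊗[A₁] B) (Localization.Away s) s ^ n) := by
        rw [Units.val_pow_eq_pow_val, hv, map_pow, hΦ, locHom_upHom, Algebra.TensorProduct.tmul_pow, one_pow]
      refine ((Units.isUnit (v ^ n)).map Φ).mul_left_inj.1 ?_
      rw [← map_mul, mul_assoc, ← Units.val_mul, ← mul_pow, inv_mul_cancel, one_pow, Units.val_one, mul_one,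
        hx, hΦ, map_mul, locHom_upHom, ← hb']
      show (a ⊗ₜ[S₁] (1 : Localization.Away s)) * ((1 : T) ⊗ₜ[S₁]
        algebraMap (S₁ ⊗[A₁] B) (Localization.Away s) (1 ⊗ₜ 1)) * _ = _
      rw [← Algebra.TensorProduct.one_def, map_one, Algebra.TensorProduct.tmul_mul_tmul,
        Algebra.TensorProduct.tmul_mul_tmul, Algebra.TensorProduct.tmul_mul_tmul]
      simp
  exact IsLocalization.isLocalization_of_algEquiv (Submonoid.powers x)
    (AlgEquiv.ofBijective { Φ with commutes' := hΦ }
      ⟨Function.LeftInverse.injective (g := Ψ) (RingHom.congr_fun h1), hsurj⟩)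



/-- Flatness on a basic open gives flatness of the localized base change. -/
theorem flat_away_of_forall (h : ∀ P : Ideal (T ⊗[A₁] B), P.IsPrime → upHom T s ∉ P →
    ∀ [P.IsPrime], Module.Flat T (Localization.AtPrime P)) :
    Module.Flat T (T ⊗[S₁] Localization.Away s) := by
  let W := T ⊗[S₁] Localization.Away s
  refine Module.flat_of_isLocalized_maximal (R := T) W W
    (fun P _ => Localization.AtPrime P) (fun P _ => Algebra.linearMap _ _) fun P hP => ?_
  letI := (locHom s T).toRingHom.toAlgebra
  haveI : IsScalarTower T (T ⊗[A₁] B) W := IsScalarTower.of_algebraMap_eq fun v => ((locHom s T).commutes v).symm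
  haveI := isLocalizationAway_locHom s T
  exact (flat_localization_comap_iff (R := T) (D := T ⊗[A₁] B) (D' := W) (Submonoid.powers (upHom T s)) P).1
    (h _ inferInstance fun hmem => (inferInstance : P.IsPrime).ne_top
      (P.eq_top_of_isUnit_mem hmem (IsLocalization.Away.algebraMap_isUnit (upHom T s))))

/-- Flatness of the localized base change gives flatness at the primes of the basic open. -/
theorem flat_localization_of_flat_away [Module.Flat T (T ⊗[S₁] Localization.Away s)]
    (P₀ : Ideal (T ⊗[A₁] B)) [P₀.IsPrime] (hs : upHom T s ∉ P₀) :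
    Module.Flat T (Localization.AtPrime P₀) := by
  let W := T ⊗[S₁] Localization.Away s
  letI := (locHom s T).toRingHom.toAlgebra
  haveI : IsScalarTower T (T ⊗[A₁] B) W := IsScalarTower.of_algebraMap_eq fun v => ((locHom s T).commutes v).symm
  haveI := isLocalizationAway_locHom s T
  have hd : Disjoint (Submonoid.powers (upHom T s) : Set (T ⊗[A₁] B)) ↑P₀ := by
    rw [Set.disjoint_left]
    rintro _ ⟨n, rfl⟩ hn
    exact hs ((inferInstance : P₀.IsPrime).mem_of_pow_mem n hn)
  let P := P₀.map (algebraMap (T ⊗[A₁] B) W)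
  haveI : P.IsPrime := IsLocalization.isPrime_of_isPrime_disjoint (Submonoid.powers (upHom T s)) _ _ inferInstance hd
  have hP : P.comap (algebraMap (T ⊗[A₁] B) W) = P₀ :=
    IsLocalization.comap_map_of_isPrime_disjoint (Submonoid.powers (upHom T s)) _ inferInstance hd
  have h : Module.Flat T (Localization.AtPrime P) := by
    haveI : Module.Flat W (Localization.AtPrime P) := IsLocalization.flat _ P.primeCompl
    exact Module.Flat.trans T W (Localization.AtPrime P)
  have h' := (flat_localization_comap_iff (R := T) (D := T ⊗[A₁] B) (D' := W)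
    (Submonoid.powers (upHom T s)) P).2 h
  have key : ∀ (I : Ideal (T ⊗[A₁] B)) [I.IsPrime], I = P₀ →
      Module.Flat T (Localization.AtPrime I) → Module.Flat T (Localization.AtPrime P₀) := by
    intro I _ hI hh
    subst hI
    exact hh
  exact key _ hP h'

/-- Flatness at a prime over the closed point descends to an essentially finite type local subring. -/
theorem exists_stage_local {A₁ B V : Type u} [CommRing A₁] [CommRing B] [Algebra A₁ B]
    [Algebra.FinitePresentation A₁ B] [CommRing V] [IsDomain V] [IsLocalRing V] [Algebra A₁ V]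
    (Q : Ideal (V ⊗[A₁] B)) [Q.IsPrime]
    (hflat : Module.Flat V (Localization.AtPrime Q)) :
    ∃ (C : Type u) (_ : CommRing C) (_ : IsDomain C) (_ : IsLocalRing C) (_ : Algebra A₁ C)
      (_ : Algebra.EssFiniteType A₁ C) (j : C →ₐ[A₁] V), Function.Injective j ∧ IsLocalHom j.toRingHom ∧
      Module.Flat C (Localization.AtPrime
        (Q.comap (Algebra.TensorProduct.map j (AlgHom.id A₁ B)).toRingHom)) := by
  classical
  have hopen := H8Props.FlatLocus.isOpen_setOf_flat_localization V (V ⊗[A₁] B)
  obtain ⟨_, ⟨t, rfl⟩, htQ, hsub⟩ :=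
    PrimeSpectrum.isTopologicalBasis_basic_opens.exists_subset_of_mem_open
      (show (⟨Q, inferInstance⟩ : PrimeSpectrum (V ⊗[A₁] B)) ∈
        {q : PrimeSpectrum (V ⊗[A₁] B) | Module.Flat V (Localization.AtPrime q.asIdeal)} from hflat) hopen
  obtain ⟨F, hF⟩ := TensorProduct.exists_finset t
  let S₁ : Subalgebra A₁ V := Algebra.adjoin A₁ ↑(F.image Prod.fst)
  haveI : Algebra.FiniteType A₁ S₁ := (Subalgebra.fg_iff_finiteType S₁).1 ⟨_, rfl⟩
  obtain ⟨s, rfl⟩ : ∃ s : S₁ ⊗[A₁] B, upHom V s = t :=
    ⟨∑ p ∈ F.attach, (⟨p.1.1, Algebra.subset_adjoin (Finset.mem_image_of_mem _ p.2)⟩ : S₁) ⊗ₜ p.1.2, by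
      rw [map_sum, hF, ← Finset.sum_attach F]; rfl⟩
  let B' := Localization.Away s
  haveI : Algebra.FinitePresentation (S₁ ⊗[A₁] B) B' := IsLocalization.Away.finitePresentation s
  haveI : Algebra.FinitePresentation S₁ B' := Algebra.FinitePresentation.trans S₁ (S₁ ⊗[A₁] B) B'
  haveI : Module.Flat V (V ⊗[S₁] B') :=
    flat_away_of_forall s V fun P _ hmem _ => hsub (a := ⟨P, inferInstance⟩) hmem
  let ι := {S : Subalgebra S₁ V // S.FG}
  haveI : Nonempty ι := ⟨⟨⊥, Subalgebra.fg_bot⟩⟩
  haveI : IsDirected ι (· ≤ ·) := ⟨fun a b => ⟨⟨a.1 ⊔ b.1, a.2.sup b.2⟩,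
    (le_sup_left : a.1 ≤ a.1 ⊔ b.1), (le_sup_right : b.1 ≤ a.1 ⊔ b.1)⟩⟩
  obtain ⟨⟨S₂, hS₂⟩, hflat₂⟩ := H06EGA11.exists_index_flat (A₀ := S₁) (B₀ := B') B'
    (fun i : ι => ↥i.1) (fun i j h => Subalgebra.inclusion h) (A := V) (fun i => i.1.val)
    (fun i j h => rfl)
    (fun a => ⟨⟨Algebra.adjoin S₁ {a}, ⟨{a}, by rw [Finset.coe_singleton]⟩⟩,
      ⟨a, Algebra.self_mem_adjoin_singleton _ _⟩, rfl⟩)
    (fun i x hx => ⟨i, le_rfl, by
      have : x = 0 := Subtype.ext hx
      rw [this, map_zero]⟩)
  haveI : Algebra.FiniteType S₁ S₂ := (Subalgebra.fg_iff_finiteType S₂).1 hS₂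
  haveI : Algebra.FiniteType A₁ S₂ := Algebra.FiniteType.trans (S := S₁) inferInstance inferInstance
  let 𝔭 : Ideal S₂ := (IsLocalRing.maximalIdeal V).comap S₂.val.toRingHom
  let C := Localization.AtPrime 𝔭
  haveI : IsDomain C := IsLocalization.isDomain_localization 𝔭.primeCompl_le_nonZeroDivisors
  have hu : ∀ y : 𝔭.primeCompl, IsUnit ((S₂.val.restrictScalars A₁) (y : S₂)) := fun y => by
    by_contra hn
    exact y.2 (show S₂.val (y : S₂) ∈ IsLocalRing.maximalIdeal V from hn)
  let j : C →ₐ[A₁] V := IsLocalization.liftAlgHom (f := S₂.val.restrictScalars A₁) hu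
  have hj : Function.Injective j := by
    refine (IsLocalization.lift_injective_iff (g := (S₂.val.restrictScalars A₁).toRingHom) hu).2
      fun a b => ⟨fun hab => ?_, fun hab => ?_⟩
    · exact congrArg _ (IsLocalization.injective C 𝔭.primeCompl_le_nonZeroDivisors hab)
    · exact congrArg _ (Subtype.ext hab)
  have hjloc : IsLocalHom j.toRingHom := ⟨fun z hz => by
    obtain ⟨a, b, rfl⟩ := IsLocalization.exists_mk'_eq 𝔭.primeCompl z
    rw [IsLocalization.AtPrime.isUnit_mk'_iff C 𝔭]
    intro ha
    have hz' : IsUnit (j (IsLocalization.mk' C a b)) := hz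
    have h2 : j (algebraMap S₂ C a) = (a : V) := IsLocalization.lift_eq hu a
    rw [← IsLocalization.mk'_spec C a b, map_mul] at h2
    exact (show (a : V) ∈ IsLocalRing.maximalIdeal V from ha)
      (h2 ▸ hz'.mul ((IsLocalization.map_units C b).map j))⟩
  haveI : Algebra.EssFiniteType A₁ C := Algebra.EssFiniteType.comp A₁ S₂ C
  refine ⟨C, inferInstance, inferInstance, inferInstance, inferInstance, inferInstance, j, hj, hjloc, ?_⟩
  let jS : C →ₐ[S₁] V :=
    { j.toRingHom with
      commutes' := fun a => by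
        show j (algebraMap S₁ C a) = _
        rw [IsScalarTower.algebraMap_apply S₁ S₂ C]
        exact IsLocalization.lift_eq hu _ }
  haveI : Module.Flat C (C ⊗[S₁] B') :=
    Module.Flat.of_linearEquiv (AlgebraTensorModule.cancelBaseChange S₁ S₂ C C B').symm
  refine flat_localization_of_flat_away s C _ fun hmem => htQ ?_
  have hc : (Algebra.TensorProduct.map j (AlgHom.id A₁ B)).comp (upHom C) = upHom V :=
    Algebra.TensorProduct.ext' fun a b => by
      show j (algebraMap S₁ C a) ⊗ₜ b = algebraMap S₁ V a ⊗ₜ b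
      rw [show j (algebraMap S₁ C a) = algebraMap S₁ V a from jS.commutes a]
  exact AlgHom.congr_fun hc s ▸ hmem

end Groth.Agent.H06Unibr
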